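import Groth.Agent.ProperTraceLib.Basic
import Groth.Agent.BlowRegLib.DualPair
import Groth.Prelude.Def_RelCanon

/-!
# Dualizing sheaves over an affine base and the relative dualizing object

For `X` proper over `Spec A` with fibres of dimension at most `d`, the `d`-dualizing sheaves are the modules
isomorphic to the cohomology in degree `-d` of the relative dualizing object, and the latter has no cohomology
below degree `-d`.
-/

set_option autoImplicit false
set_option linter.style.haveILetI false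
set_option linter.unusedSectionVars false
set_option backward.isDefEq.respectTransparency false
set_option backward.isDefEq.respectTransparency.types false
set_option maxHeartbeats 1000000
set_option synthInstance.maxHeartbeats 200000

universe u

open CategoryTheory CategoryTheory.Limits AlgebraicGeometry DerivedCategory
open Groth.Agent

attribute [local instance] HasDerivedCategory.standard

noncomputable section

namespace QGorBridgeLib

/-- A module isomorphic to a dualizing sheaf is dualizing. -/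
theorem isDualizingSheaf_of_iso {A : Type u} [CommRing A] {X : Scheme.{u}} [X.Over (Spec (CommRingCat.of A))]
    {d : ℕ} {ω ω' : X.Modules} (e : ω ≅ ω') (h : RelCanon.IsDualizingSheaf A X d ω) :
    RelCanon.IsDualizingSheaf A X d ω' := by
  obtain ⟨tr, hq, hb⟩ := h
  refine ⟨tr ∘ₗ Canon.HHlin A e.inv d, haveI := hq; QCohLib.isQCoh_of_iso e, fun F hF => ?_⟩
  have hcomp : Canon.dualityMap A X d ω' (tr ∘ₗ Canon.HHlin A e.inv d) F =
      Canon.dualityMap A X d ω tr F ∘ fun φ => φ ≫ e.inv := funext fun φ => by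
    show (tr ∘ₗ Canon.HHlin A e.inv d) ∘ₗ Canon.HHlin A φ d = tr ∘ₗ Canon.HHlin A (φ ≫ e.inv) d
    rw [BlowRegLib.HHlin_comp, LinearMap.comp_assoc]
  rw [hcomp]
  exact (hb F hF).comp e.symm.homToEquiv.bijective

variable {A : Type u} [CommRing A] {X : Scheme.{u}} [X.Over (Spec (CommRingCat.of A))]
  [IsProper (X ↘ Spec (CommRingCat.of A))] [DCoh.HasRpush (X ↘ Spec (CommRingCat.of A))]
  {hf : DCoh.RpushPreservesQCoh (X ↘ Spec (CommRingCat.of A))}
  {a : DCoh.DQCoh (Spec (CommRingCat.of A)) ⥤ DCoh.DQCoh X}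
  (adj : DCoh.RpushQ (X ↘ Spec (CommRingCat.of A)) hf ⊣ a) (O : DCoh.DQCoh (Spec (CommRingCat.of A)))
  (hO : Nonempty (O.obj ≅ DCoh.inD (Spec (CommRingCat.of A)) (Coh.structureModule (Spec (CommRingCat.of A)))))
  (d : ℕ) (hd : ∀ y, topologicalKrullDim ↥((X ↘ Spec (CommRingCat.of A)).fiber y) ≤ (d : WithBot ℕ∞))

include adj hO hd in
theorem isGE_and_isDualizingSheaf_HD :
    (a.obj O).obj.IsGE (-(d : ℤ)) ∧ RelCanon.IsDualizingSheaf A X d (DCoh.HD (a.obj O).obj (-(d : ℤ))) := by
  haveI : PreservesFiniteLimits (tilde.functor (CommRingCat.of A)) := HensSchLib.tilde_preservesFiniteLimits _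
  obtain ⟨eO⟩ := hO
  haveI : CompactSpace X := QuasiCompact.compactSpace_of_compactSpace (X ↘ Spec (CommRingCat.of A))
  have hv : ∀ G : X.Modules, Coh.IsQCoh G → ∀ j : ℕ, d < j → Subsingleton (Coh.HH X G j) := fun G hG j hj => by
    haveI := hG
    exact FibVanLib.subsingleton_HH_affine (X ↘ Spec (CommRingCat.of A)) d hd G j hj
  haveI : (Dual.inD A A).IsGE 0 := inferInstanceAs (((singleFunctor (ModuleCat.{u} A) 0).obj _).IsGE 0)
  haveI : (DCoh.inD (Spec (CommRingCat.of A)) (Coh.structureModule (Spec (CommRingCat.of A)))).IsGE 0 :=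
    inferInstanceAs (((singleFunctor (Spec (CommRingCat.of A)).Modules 0).obj _).IsGE 0)
  haveI : O.obj.IsGE 0 := TStructure.t.isGE_of_iso eO.symm 0
  have hge := ProperTraceLib.isGE_rightAdjoint_of_vanishing hf a adj O (ω := Dual.inD A A)
    (eO ≪≫ Dual3Lib.inDSpecIso.symm) 0 d hv
  rw [zero_sub] at hge
  refine ⟨hge, ?_⟩
  obtain ⟨t, ht⟩ := Dual3Lib.exists_trace hf a adj d 0 (-(d : ℤ)) (by omega) O (ω := Dual.inD A A)
    (eO ≪≫ Dual3Lib.inDSpecIso.symm) hge
  let β : (homologyFunctor (ModuleCat.{u} A) 0).obj (Dual.inD A A) ≃ₗ[A] A :=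
    ((singleFunctorCompHomologyFunctorIso (ModuleCat.{u} A) 0).app (ModuleCat.of A A)).toLinearEquiv
  refine ⟨β.toLinearMap.comp t, (a.obj O).property _, fun F hF => ⟨fun φ φ' h => ?_, fun g => ?_⟩⟩
  · obtain ⟨φ₀, -, huniq⟩ := ht F hF (fun j hj => hv F hF j hj)
      (t ∘ₗ Canon.HHlin A φ d)
    exact (huniq φ fun x => rfl).trans (huniq φ' fun x => β.injective (LinearMap.congr_fun h x)).symm
  · obtain ⟨φ, hφ, -⟩ := ht F hF (fun j hj => hv F hF j hj) (β.symm.toLinearMap.comp g)
    exact ⟨φ, LinearMap.ext fun x => (β.symm_apply_eq.1 (hφ x)).symm⟩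

include adj hO hd in
theorem nonempty_iso_HD {ω : X.Modules} (hω : RelCanon.IsDualizingSheaf A X d ω) :
    Nonempty (ω ≅ DCoh.HD (a.obj O).obj (-(d : ℤ))) := by
  obtain ⟨-, tr', h'⟩ := isGE_and_isDualizingSheaf_HD adj O hO d hd
  obtain ⟨tr, h⟩ := hω
  obtain ⟨⟨ρ, hρ, -⟩, hiso⟩ := BlowRegLib.dual_pair_unique A d h' h
  haveI := hiso ρ hρ
  exact ⟨asIso ρ⟩

end QGorBridgeLib
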